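import Cfsg.Agent.Lib.Spor.LargeFischer.LineModel
import Cfsg.Agent.Lib.Spor.LargeFischer.StabX
import Cfsg.Agent.Lib.Spor.U43Six.Center

/-!
# The triple cover extended by the semilinear map
-/

set_option autoImplicit false
set_option maxRecDepth 100000

namespace CfsgLib.Spor.MonsterType.Six

open Matrix Subgroup CfsgLib.Spor.U43Six CfsgLib.Spor.Fi22.U6 CfsgLib.Spor.LargeFischer

noncomputable section

/-- The semilinear map. -/
def outMap : Equiv.Perm V6 := Outer.perm .frsw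

theorem out_sq : outMap * outMap = 1 := Outer.sq_one .frsw

theorem out_conj {k : Equiv.Perm V6} (hk : k ∈ KP) : ∃ k' ∈ KP, outMap * k = k' * outMap := by
  obtain ⟨g, hg, rfl⟩ := hk
  obtain ⟨g', hg', e⟩ := Outer.conj_mem .frsw hg
  exact ⟨_, ⟨g', hg', rfl⟩, e⟩

/-- The extension. -/
def Tgrp : Subgroup (Equiv.Perm V6) where
  carrier := {x | x ∈ KP ∨ ∃ k ∈ KP, x = k * outMap}
  one_mem' := Or.inl (one_mem _)
  mul_mem' := by
    rintro x y (hx | ⟨k, hk, rfl⟩) (hy | ⟨l, hl, rfl⟩)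
    · exact Or.inl (mul_mem hx hy)
    · exact Or.inr ⟨x * l, mul_mem hx hl, (mul_assoc _ _ _).symm⟩
    · obtain ⟨y', hy', e⟩ := out_conj hy
      exact Or.inr ⟨k * y', mul_mem hk hy', by rw [mul_assoc, e, ← mul_assoc]⟩
    · obtain ⟨l', hl', e⟩ := out_conj hl
      refine Or.inl ?_
      rw [show k * outMap * (l * outMap) = k * (outMap * l) * outMap by simp only [mul_assoc], e,
        show k * (l' * outMap) * outMap = k * l' * (outMap * outMap) by simp only [mul_assoc], out_sq, mul_one]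
      exact mul_mem hk hl'
  inv_mem' := by
    rintro x (hx | ⟨k, hk, rfl⟩)
    · exact Or.inl (inv_mem hx)
    · obtain ⟨k', hk', e⟩ := out_conj (inv_mem hk)
      exact Or.inr ⟨k', hk', by rw [_root_.mul_inv_rev, inv_eq_of_mul_eq_one_right out_sq, e]⟩

theorem mem_T {x : Equiv.Perm V6} : x ∈ Tgrp ↔ x ∈ KP ∨ ∃ k ∈ KP, x = k * outMap := Iff.rfl

theorem KP_le : KP ≤ Tgrp := fun _ h => Or.inl h

theorem out_mem : outMap ∈ Tgrp := Or.inr ⟨1, one_mem _, (one_mul _).symm⟩

theorem four_sq_ne : Four.w ^ 2 ≠ Four.w := by decide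

theorem vec_ne : (fun _ => 1 : V6) ≠ 0 := fun h => absurd (congrFun h 0) (by decide)

theorem not_semilinear {f : Equiv.Perm V6} (hf : f ∈ KP) : f ≠ outMap := by
  intro e
  have h1 := lin_smul hf Four.w (fun _ => 1)
  rw [e, outMap, frsw_smul] at h1
  have hne : Outer.perm .frsw (fun _ => 1 : V6) ≠ 0 := fun h => vec_ne ((Outer.perm .frsw).injective (h.trans (by
    rw [← zero_smul Four (fun _ => 1 : V6), frsw_smul]
    simp)))
  exact four_sq_ne (smul_left_injective Four hne h1)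

/-- The triple cover inside the extension. -/
def Msub : Subgroup Tgrp := KP.subgroupOf Tgrp

/-- The scalars inside the extension. -/
def Nsub : Subgroup Tgrp := (scalars.map lin).subgroupOf Tgrp

theorem scalars_map_le : scalars.map lin ≤ KP := map_mono scalars_le

theorem card_KP : Nat.card KP = 9797760 := by
  rw [KP, ← Nat.card_congr (K1.equivMapOfInjective lin lin_injective).toEquiv, card_K1 card_F9]

theorem card_T : Nat.card Tgrp = 19595520 := by
  classical
  have e : Nat.card Tgrp = Nat.card (KP × Bool) := by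
    refine (Nat.card_congr (Equiv.ofBijective (fun t : KP × Bool => (⟨(t.1 : Equiv.Perm V6) * (if t.2 then outMap else 1),
      mul_mem (KP_le t.1.2) (by split_ifs <;> [exact out_mem; exact one_mem _])⟩ : Tgrp)) ⟨?_, ?_⟩)).symm
    · rintro ⟨⟨k, hk⟩, b⟩ ⟨⟨l, hl⟩, c⟩ h
      have h' : k * (if b then outMap else 1) = l * (if c then outMap else 1) := congrArg Subtype.val h
      cases b <;> cases c <;> simp only [if_true, Bool.false_eq_true, if_false, mul_one] at h'
      · subst h'; rfl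
      · exact absurd (show l⁻¹ * k = outMap by rw [h', inv_mul_cancel_left])
          (not_semilinear (mul_mem (inv_mem hl) hk))
      · exact absurd (show k⁻¹ * l = outMap by rw [← h', inv_mul_cancel_left])
          (not_semilinear (mul_mem (inv_mem hk) hl))
      · obtain rfl := mul_right_cancel h'; rfl
    · rintro ⟨x, hx | ⟨k, hk, rfl⟩⟩
      · exact ⟨(⟨x, hx⟩, false), Subtype.ext (mul_one x)⟩
      · exact ⟨(⟨k, hk⟩, true), rfl⟩
  rw [e, Nat.card_prod, card_KP, Nat.card_eq_fintype_card, Fintype.card_bool]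

theorem Msub_index : Msub.index = 2 := by
  have h := Msub.card_mul_index
  have hM : Nat.card Msub = 9797760 := (Nat.card_congr (subgroupOfEquivOfLe KP_le).toEquiv).trans card_KP
  rw [hM, card_T] at h
  omega

instance Msub_normal : Msub.Normal := Subgroup.normal_of_index_eq_two Msub_index

theorem card_Nsub : Nat.card Nsub = 3 := by
  rw [Nsub, Nat.card_congr (subgroupOfEquivOfLe (scalars_map_le.trans KP_le)).toEquiv,
    ← Nat.card_congr (scalars.equivMapOfInjective lin lin_injective).toEquiv, card_scalars]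

theorem mem_Nsub_iff {x : Tgrp} : x ∈ Nsub ↔ ∃ c : Four, ∀ v : V6, (x : Equiv.Perm V6) v = c • v := by
  constructor
  · intro hx
    obtain ⟨g, ⟨c, hc⟩, e⟩ := mem_subgroupOf.1 hx
    exact ⟨c, fun v => by rw [← e, lin_apply, hc, scalarM, smul_mulVec, one_mulVec]⟩
  · rintro ⟨c, hc⟩
    have hc0 : c ≠ 0 := fun h => by
      have h1 := hc (fun _ => 1)
      rw [h, zero_smul] at h1
      refine vec_ne ((x : Equiv.Perm V6).injective (h1.trans ?_))
      rw [hc, smul_zero]
    exact mem_subgroupOf.2 ⟨scal c hc0, ⟨c, rfl⟩, Equiv.ext fun v => by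
      rw [hc v, lin_apply, show mat6 (scal c hc0) = scalarM c from rfl, scalarM, smul_mulVec, one_mulVec]⟩

instance Nsub_normal : Nsub.Normal := by
  refine ⟨fun n hn g => mem_Nsub_iff.2 ?_⟩
  obtain ⟨c, hc⟩ := mem_Nsub_iff.1 hn
  rcases mem_T.1 g.2 with hk | ⟨k, hk, e⟩
  · refine ⟨c, fun v => ?_⟩
    show (g : Equiv.Perm V6) ((n : Equiv.Perm V6) ((g : Equiv.Perm V6)⁻¹ v)) = _
    rw [hc, lin_smul hk, Equiv.Perm.inv_def, Equiv.apply_symm_apply]
  · refine ⟨c ^ 2, fun v => ?_⟩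
    show (g : Equiv.Perm V6) ((n : Equiv.Perm V6) ((g : Equiv.Perm V6)⁻¹ v)) = _
    rw [hc]
    have hs : ∀ w, (g : Equiv.Perm V6) (c • w) = c ^ 2 • (g : Equiv.Perm V6) w := fun w => by
      rw [e, Equiv.Perm.mul_apply, Equiv.Perm.mul_apply, outMap, frsw_smul, lin_smul hk]
    rw [hs, Equiv.Perm.inv_def, Equiv.apply_symm_apply]

theorem Nsub_le : Nsub ≤ Msub := fun _ hx => mem_subgroupOf.2 (scalars_map_le (mem_subgroupOf.1 hx))

theorem quot_iso : Nonempty (Msub ⧸ Nsub.subgroupOf Msub ≃* Cfsg.PSU 4 F9 3) := by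
  obtain ⟨e⟩ := quot_K1 card_F9
  let ι : K1 ≃* Msub := (K1.equivMapOfInjective lin lin_injective).trans (subgroupOfEquivOfLe KP_le).symm
  refine ⟨(QuotientGroup.congr (center K1) (Nsub.subgroupOf Msub) ι ?_).symm.trans e⟩
  rw [center_le_scalars card_F9]
  ext m
  constructor
  · rintro ⟨k, hk, rfl⟩
    exact mem_subgroupOf.2 (mem_subgroupOf.2 ⟨(k : G6), hk, rfl⟩)
  · intro hm
    obtain ⟨g, hg, e⟩ := mem_subgroupOf.1 (mem_subgroupOf.1 hm)
    exact ⟨⟨g, scalars_le hg⟩, hg, Subtype.ext (Subtype.ext e)⟩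

theorem Tgrp_nonormal (U : Subgroup Tgrp) (hU : U.Normal) (h2 : IsPGroup 2 U) : U = ⊥ := by
  classical
  haveI : Fact (Nat.Prime 2) := ⟨Nat.prime_two⟩
  obtain ⟨e⟩ := quot_iso
  haveI := psu43_simple (F := F9) card_F9
  let f : Msub →* Cfsg.PSU 4 F9 3 := e.toMonoidHom.comp (QuotientGroup.mk' _)
  have hf : Function.Surjective f := e.surjective.comp (QuotientGroup.mk'_surjective _)
  have h2M : IsPGroup 2 (U.subgroupOf Msub) := h2.comap_of_injective Msub.subtype Msub.subtype_injective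
  haveI : ((U.subgroupOf Msub).map f).Normal := Subgroup.Normal.map inferInstance f hf
  have hbot : (U.subgroupOf Msub).map f = ⊥ := by
    refine (IsSimpleGroup.eq_bot_or_eq_top_of_normal _ inferInstance).resolve_right fun h => ?_
    obtain ⟨n, hn⟩ := (h2M.map f).exists_card_eq
    rw [h, card_top, card_psu43 card_F9] at hn
    have h3 : (3 : ℕ) ∣ 2 ^ n := hn ▸ (by norm_num)
    have := (Nat.prime_dvd_prime_iff_eq Nat.prime_three Nat.prime_two).1 (Nat.prime_three.dvd_of_dvd_pow h3)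
    omega
  have hmeet : ∀ u ∈ U, u ∈ Msub → u = 1 := fun u hu huM => by
    have hN : u ∈ Nsub := by
      have h1 : f ⟨u, huM⟩ = 1 := by
        rw [← mem_bot, ← hbot]; exact ⟨_, hu, rfl⟩
      have h1' := (e.map_eq_one_iff).1 h1
      exact (QuotientGroup.eq_one_iff (⟨u, huM⟩ : Msub)).1 h1'
    have hd := IsPGroup.disjoint_of_ne 2 3 (by norm_num) U Nsub h2 (IsPGroup.of_card (n := 1) (by rw [card_Nsub, pow_one]))
    exact mem_bot.1 (hd.le_bot ⟨hu, hN⟩)
  refine eq_bot_iff.2 fun u hu => mem_bot.2 ?_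
  rcases mem_T.1 u.2 with hk | ⟨k, hk, hue⟩
  · exact hmeet u hu (mem_subgroupOf.2 hk)
  exfalso
  have hsM : (⟨lin (scal Four.w (by decide)), KP_le (scalars_map_le ⟨_, ⟨Four.w, rfl⟩, rfl⟩)⟩ : Tgrp) ∈ Msub :=
    mem_subgroupOf.2 (scalars_map_le ⟨_, ⟨Four.w, rfl⟩, rfl⟩)
  set s : Tgrp := ⟨lin (scal Four.w (by decide)), KP_le (scalars_map_le ⟨_, ⟨Four.w, rfl⟩, rfl⟩)⟩
  have hcomm : u * s * u⁻¹ * s⁻¹ = 1 :=
    hmeet _ (by
      rw [show u * s * u⁻¹ * s⁻¹ = u * (s * u⁻¹ * s⁻¹) by group]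
      exact mul_mem hu (hU.conj_mem _ (inv_mem hu) s))
      (mul_mem (Msub_normal.conj_mem s hsM u) (inv_mem hsM))
  have hus : u * s = s * u := mul_inv_eq_iff_eq_mul.1 (mul_inv_eq_one.1 hcomm)
  have hval : ∀ w, (s : Equiv.Perm V6) w = Four.w • w := fun w => by
    show lin (scal Four.w _) w = _
    rw [lin_apply, show mat6 (scal Four.w (by decide)) = scalarM Four.w from rfl, scalarM, smul_mulVec, one_mulVec]
  have h := congrArg (fun t : Tgrp => (t : Equiv.Perm V6) (fun _ => 1)) hus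
  simp only [coe_mul, Equiv.Perm.mul_apply, hval] at h
  rw [hue, Equiv.Perm.mul_apply, Equiv.Perm.mul_apply, outMap, frsw_smul, lin_smul hk] at h
  refine four_sq_ne (smul_left_injective Four ?_ h)
  intro h0
  have hlin0 : k (0 : V6) = 0 := by
    have := lin_smul hk (0 : Four) (fun _ => 1 : V6)
    rwa [zero_smul, zero_smul] at this
  have h1 : Outer.perm .frsw (fun _ => 1 : V6) = 0 := k.injective (h0.trans hlin0.symm)
  refine vec_ne ((Outer.perm .frsw).injective (h1.trans ?_))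
  rw [← zero_smul Four (fun _ => 1 : V6), frsw_smul]
  simp

end

end CfsgLib.Spor.MonsterType.Six
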