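import Cfsg.Agent.Lib.Spor.MonsterType.Six.Bound
import Cfsg.Agent.Lib.Spor.MonsterType.Six.Target

/-!
# The centralizer acts on the classes as the extended triple cover
-/

set_option autoImplicit false
set_option maxRecDepth 100000

namespace CfsgLib.Spor.MonsterType.Six

open Matrix Subgroup CfsgLib.Spor CfsgLib.Spor.Leech CfsgLib.Spor.MonsterType.Seven CfsgLib.Spor.U43Six
  CfsgLib.Spor.Fi22.U6 CfsgLib.Spor.LargeFischer
open CfsgLib.Spor.MonsterType.Prime (Std ofIdx xorCols)
open Cfsg (leechLattice Co0 sqNorm GolayPt M24)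

noncomputable section

/-- The columns, in coordinates, of a target. -/
def tgtCols (i : ℕ) : List ℕ := mulCols ofCols (mulCols (colsAt (tgtIdx.getD i 0)) toCols)

theorem coord_facts : ofCols.length = 12 ∧ toCols.length = 12 ∧ mulCols ofCols toCols = idCols ∧
    mulCols toCols ofCols = idCols ∧ (∀ i : Fin 3, tgtIdx.getD i 0 < 283) := by
  refine ⟨by decide +kernel, by decide +kernel, by decide +kernel, by decide +kernel, by decide +kernel⟩

theorem tgt_facts : (∀ j : Fin 12, tmat Data.abRows 0 *ᵥ toVec (ofIdx 12 (2 ^ (j : ℕ))) =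
      toVec (ofIdx 12 ((tgtCols 0).getD j 0))) ∧
    (∀ j : Fin 12, tmat Data.abRows 1 *ᵥ toVec (ofIdx 12 (2 ^ (j : ℕ))) =
      toVec (ofIdx 12 ((tgtCols 1).getD j 0))) ∧
    (∀ j : Fin 12, (fun r => (mon (Equiv.swap 0 1) 0 *ᵥ toVec (ofIdx 12 (2 ^ (j : ℕ)))) r ^ 2) =
      toVec (ofIdx 12 ((tgtCols 2).getD j 0))) := by
  refine ⟨by decide +kernel, by decide +kernel, by decide +kernel⟩

/-- The classes as six-vectors over four elements. -/
def coordEquiv : Cl ≃ V6 where
  toFun a := toVec (linC ofCols a)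
  invFun v := linC toCols (ofVec v)
  left_inv a := by
    show linC toCols (ofVec (toVec (linC ofCols a))) = a
    rw [ofVec_toVec, linC_comp coord_facts.2.1 coord_facts.1, coord_facts.2.2.2.1, linC_id]
  right_inv v := by
    show toVec (linC ofCols (linC toCols (ofVec v))) = v
    rw [linC_comp coord_facts.1 coord_facts.2.1, coord_facts.2.2.1, linC_id, toVec_ofVec]

/-- The action as permutations of the vectors. -/
def act12 : ↥S6.cent →* Equiv.Perm V6 :=
  MonoidHom.mk' (fun x => coordEquiv.permCongr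
    { toFun := S6.actc x
      invFun := S6.actc x⁻¹
      left_inv := fun a => by rw [← S6.actc_mul, inv_mul_cancel, S6.actc_one]
      right_inv := fun a => by rw [← S6.actc_mul, mul_inv_cancel, S6.actc_one] })
    fun x y => Equiv.ext fun v => by
      simp only [Equiv.Perm.mul_apply, Equiv.permCongr_apply, Equiv.coe_fn_mk, Equiv.symm_apply_apply, S6.actc_mul]

theorem act12_apply (x : ↥S6.cent) (v : V6) :
    act12 x v = coordEquiv (S6.actc x (coordEquiv.symm v)) := rfl

theorem act12_of_cols {x : ↥S6.cent} {g : ℕ} (hx : ∀ a, S6.actc x a = linC (colsAt g) a) (a : Cl) :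
    act12 x (toVec a) = toVec (linC (mulCols ofCols (mulCols (colsAt g) toCols)) a) := by
  rw [act12_apply]
  show toVec (linC ofCols (S6.actc x (linC toCols (ofVec (toVec a))))) = _
  rw [ofVec_toVec, hx, linC_comp (colsAt_len g) coord_facts.2.1,
    linC_comp coord_facts.1 (by simp [mulCols, coord_facts.2.1])]

theorem toVec_mulVec (A : M6) (a : Cl) {cols : List ℕ}
    (h : ∀ j : Fin 12, A *ᵥ toVec (ofIdx 12 (2 ^ (j : ℕ))) = toVec (ofIdx 12 (cols.getD j 0))) :
    A *ᵥ toVec a = toVec (linC cols a) := by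
  refine ext_basis (f := AddMonoidHom.mk' (fun a => A *ᵥ toVec a) fun p q => by rw [map_add, mulVec_add])
    (g := toVec.comp (linC cols)) (fun j => ?_) a
  rw [AddMonoidHom.comp_apply, linC_basis]
  exact h j

theorem gab_range (i : Fin 2) : lin (gab ⟨i, by omega⟩) ∈ act12.range := by
  obtain ⟨x, hx⟩ := exists_val _ (coord_facts.2.2.2.2 ⟨i, by omega⟩)
  refine ⟨x, Equiv.ext fun v => ?_⟩
  rw [← toVec_ofVec v, act12_of_cols hx, lin_apply]
  refine (toVec_mulVec _ _ fun j => ?_).symm
  fin_cases i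
  · exact tgt_facts.1 j
  · exact tgt_facts.2.1 j

theorem out_range : outMap ∈ act12.range := by
  obtain ⟨x, hx⟩ := exists_val _ (coord_facts.2.2.2.2 2)
  refine ⟨x, Equiv.ext fun v => ?_⟩
  rw [← toVec_ofVec v, act12_of_cols hx]
  show _ = frob (lin U43Six.sw (toVec (ofVec v)))
  have hadd : ∀ p q : V6, (fun r => (mon (Equiv.swap 0 1) 0 *ᵥ (p + q)) r ^ 2) =
      (fun r => (mon (Equiv.swap 0 1) 0 *ᵥ p) r ^ 2) + fun r => (mon (Equiv.swap 0 1) 0 *ᵥ q) r ^ 2 := fun p q => by
    funext r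
    have key : ∀ s t : Four, (s + t) ^ 2 = s ^ 2 + t ^ 2 := by decide
    rw [mulVec_add, Pi.add_apply, key]
    rfl
  rw [lin_apply, show mat6 U43Six.sw = mon (Equiv.swap 0 1) 0 from mat_mo _ _ _]
  refine ext_basis (f := toVec.comp (linC (mulCols ofCols (mulCols (colsAt (tgtIdx.getD 2 0)) toCols))))
    (g := AddMonoidHom.mk' (fun a : Cl => (fun r => (mon (Equiv.swap 0 1) 0 *ᵥ toVec a) r ^ 2 : V6))
      fun p q => by rw [map_add]; exact hadd _ _) (fun j => ?_) (ofVec v)
  rw [AddMonoidHom.comp_apply, linC_basis]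
  exact (tgt_facts.2.2 j).symm

theorem T_le_range : Tgrp ≤ act12.range := by
  have hK : KP ≤ act12.range := by
    rw [KP, map_le_iff_le_comap, U43Six.K1, closure_le]
    rintro g (rfl | rfl)
    · exact gab_range 0
    · exact gab_range 1
  rintro x (hx | ⟨k, hk, rfl⟩)
  · exact hK hx
  · exact mul_mem (hK hk) out_range

theorem act12_triv {x : ↥S6.cent} (h : ∀ v : leechLattice, S6.P • v = v → Cong v ((x : Co0) • v)) : act12 x = 1 :=
  Equiv.ext fun v => by rw [act12_apply, S6.actc_eq_self h, Equiv.apply_symm_apply]; rfl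

/-- The six obvious elements of the kernel. -/
def kerElt (t : Fin 3 × Bool) : Co0 := (if t.2 then negAut else 1) * S6.P ^ (t.1 : ℕ)

theorem orderOf_rho : orderOf rho = 3 := by
  haveI : Fact (Nat.Prime 3) := ⟨Nat.prime_three⟩
  refine orderOf_eq_prime rho_pow_three fun h => ?_
  have := congrArg (fun g => (fixSet g).card) h
  rw [rho, fixSet_permOf sixElt_code, card_pts, sixElt_facts.2.2.2.2.2.2,
    show fixSet 1 = Finset.univ from Finset.filter_true_of_mem fun p _ => rfl, Finset.card_univ,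
    show Fintype.card GolayPt = 24 by decide +kernel] at this
  omega

theorem orderOf_P6 : orderOf P6 = 3 := by
  have h : P6 = prmHom ⟨rho, rho_mem⟩ := rfl
  rw [h, orderOf_injective prmHom prmHom_injective, ← orderOf_coe]
  exact orderOf_rho

theorem kerElt_inj : Function.Injective kerElt := by
  have h2 : negAut ^ 2 = 1 := by rw [pow_two]; exact sgnAut_sq Cfsg.Spor.univ_mem_supports_golayCode
  have hne : ∀ k : ℕ, negAut ≠ S6.P ^ k := fun k h => by
    have h3 := congrArg (fun g : Co0 => g ^ 3) h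
    rw [← pow_mul, mul_comm, pow_mul, S6.hpow, one_pow, pow_succ, h2, one_mul] at h3
    exact negAut_ne_one h3
  have hinj : ∀ i j : Fin 3, S6.P ^ (i : ℕ) = S6.P ^ (j : ℕ) → i = j := fun i j h =>
    Fin.ext (pow_injOn_Iio_orderOf (x := S6.P) (by rw [show S6.P = P6 from rfl, orderOf_P6]; exact i.2)
      (by rw [show S6.P = P6 from rfl, orderOf_P6]; exact j.2) h)
  rintro ⟨i, a⟩ ⟨j, c⟩ h
  simp only [kerElt] at h
  cases a <;> cases c <;> simp only [Bool.false_eq_true, if_false, if_true, one_mul] at h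
  · rw [hinj i j h]
  · exfalso
    refine hne ((i : ℕ) + 2 * (j : ℕ)) ?_
    rw [pow_add, h, mul_assoc, ← pow_add, show (j : ℕ) + 2 * (j : ℕ) = 3 * (j : ℕ) by ring, pow_mul, S6.hpow, one_pow,
      mul_one]
  · exfalso
    refine hne ((j : ℕ) + 2 * (i : ℕ)) ?_
    rw [pow_add, ← h, mul_assoc, ← pow_add, show (i : ℕ) + 2 * (i : ℕ) = 3 * (i : ℕ) by ring, pow_mul, S6.hpow, one_pow,
      mul_one]
  · rw [hinj i j (mul_left_cancel h)]

theorem kerElt_mem (t : Fin 3 × Bool) : kerElt t ∈ S6.cent :=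
  mul_mem (by split_ifs <;> [exact S6.neg_mem; exact one_mem _]) (pow_mem S6.P_mem _)

theorem act12_P : act12 ⟨S6.P, S6.P_mem⟩ = 1 := act12_triv fun v hv => by
  show Cong v (S6.P • v)
  rw [hv]; exact Cong.refl v

theorem act12_neg : act12 ⟨negAut, S6.neg_mem⟩ = 1 := act12_triv fun v _ => by
  show Cong v (negAut • v)
  rw [negAut_smul]; exact Cong.neg v

theorem kerElt_ker (t : Fin 3 × Bool) : (⟨kerElt t, kerElt_mem t⟩ : ↥S6.cent) ∈ act12.ker := by
  obtain ⟨i, a⟩ := t
  have e : (⟨kerElt (i, a), kerElt_mem _⟩ : ↥S6.cent) =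
      (if a then ⟨negAut, S6.neg_mem⟩ else 1) * (⟨S6.P, S6.P_mem⟩ : ↥S6.cent) ^ (i : ℕ) := by
    cases a <;> exact Subtype.ext rfl
  rw [MonoidHom.mem_ker, e, map_mul, map_pow, act12_P, one_pow, mul_one]
  cases a
  · exact map_one _
  · exact act12_neg

theorem count_facts : act12.range = Tgrp ∧ Nat.card act12.ker = 6 := by
  have hk : 6 ≤ Nat.card act12.ker := by
    refine le_trans (le_of_eq ?_) (Nat.card_le_card_of_injective
      (fun t => (⟨⟨kerElt t, kerElt_mem t⟩, kerElt_ker t⟩ : act12.ker))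
      fun a c h => kerElt_inj (congrArg (fun u : act12.ker => ((u : ↥S6.cent) : Co0)) h))
    simp [Nat.card_eq_fintype_card]
  have hmul := act12.ker.card_mul_index
  rw [index_ker] at hmul
  have hT := Subgroup.card_le_of_le T_le_range
  rw [card_T] at hT
  have hc := card_cent_le
  have hr : Nat.card act12.range = 19595520 ∧ Nat.card act12.ker = 6 := by
    constructor <;> nlinarith
  exact ⟨(eq_of_le_of_card_ge T_le_range (by rw [hr.1, card_T])).symm, hr.2⟩

/-- The action onto the extension. -/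
def chi : ↥S6.cent →* Tgrp :=
  act12.codRestrict Tgrp fun x => count_facts.1 ▸ ⟨x, rfl⟩

theorem kernel_cases (x : ↥S6.cent) (hx : chi x = 1) :
    ∃ k : ℕ, (x : Co0) = S6.P ^ k ∨ (x : Co0) = negAut * S6.P ^ k := by
  classical
  let f : Fin 3 × Bool → act12.ker := fun t => ⟨⟨kerElt t, kerElt_mem t⟩, kerElt_ker t⟩
  have hf : Function.Bijective f := (Nat.bijective_iff_injective_and_card f).2
    ⟨fun a c h => kerElt_inj (congrArg (fun u : act12.ker => ((u : ↥S6.cent) : Co0)) h), by
      rw [count_facts.2]; simp [Nat.card_eq_fintype_card]⟩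
  obtain ⟨⟨i, a⟩, ht⟩ := hf.2 ⟨x, congrArg Subtype.val hx⟩
  have e : kerElt (i, a) = (x : Co0) := congrArg (fun u : act12.ker => ((u : ↥S6.cent) : Co0)) ht
  refine ⟨i, ?_⟩
  cases a
  · left; rw [← e]; simp [kerElt]
  · right; rw [← e]; rfl

/-- The action, for the generic setting. -/
def act6 : Prime.Act S6 Tgrp where
  χ := chi
  surj := fun ⟨t, ht⟩ => by
    obtain ⟨x, hx⟩ := T_le_range ht
    exact ⟨x, Subtype.ext hx⟩
  neg := Subtype.ext act12_neg
  self := Subtype.ext act12_P
  triv _ h := Subtype.ext (act12_triv h)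
  ker := kernel_cases
  nonormal := Tgrp_nonormal

end

end CfsgLib.Spor.MonsterType.Six
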