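import Cfsg.Agent.Lib.Spor.MonsterType.Prime.Mono
import Cfsg.Agent.Lib.Spor.LargeFischer.Maps
import Cfsg.Agent.Lib.Spor.LargeFischer.Hermitian

/-!
# Additive maps of binary vectors by the images of the basis, and coordinates for six-vectors over four elements
-/

set_option autoImplicit false

namespace CfsgLib.Spor.MonsterType.Six

open Matrix CfsgLib.Spor.U43Six CfsgLib.Spor.Fi22.U6
open CfsgLib.Spor.MonsterType.Prime (ofIdx toIdx xorCols ofIdx_xorCols ofIdx_xor)
open CfsgLib.Spor.LargeFischer (bitF bitF_add)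

/-- The binary classes. -/
abbrev Cl : Type := Fin 12 → ZMod 2

/-- The additive map with given images of the basis. -/
def linC (cols : List ℕ) : Cl →+ Cl :=
  AddMonoidHom.mk' (fun a => ∑ j : Fin 12, a j • ofIdx 12 (cols.getD j 0)) fun a c => by
    simp only [Pi.add_apply, add_smul, Finset.sum_add_distrib]

theorem linC_idx {cols : List ℕ} (hl : cols.length = 12) (n : ℕ) :
    linC cols (ofIdx 12 n) = ofIdx 12 (xorCols cols n) := by
  rw [ofIdx_xorCols cols hl n]
  change (∑ j : Fin 12, ofIdx 12 n j • ofIdx 12 (cols.getD (j : ℕ) 0)) = _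
  refine Finset.sum_congr rfl fun j _ => ?_
  have h : ∀ (t : ZMod 2) (u : Cl), t • u = t.val • u := by
    intro t u
    funext i
    simp only [Pi.smul_apply, smul_eq_mul, nsmul_eq_mul, ZMod.natCast_val, ZMod.cast_id, id]
  exact h _ _

theorem basis_eq : ∀ i j : Fin 12, ofIdx 12 (2 ^ (j : ℕ)) i = if i = j then 1 else 0 := by decide +kernel

theorem linC_basis (cols : List ℕ) (j : Fin 12) : linC cols (ofIdx 12 (2 ^ (j : ℕ))) = ofIdx 12 (cols.getD j 0) := by
  show ∑ i : Fin 12, ofIdx 12 (2 ^ (j : ℕ)) i • ofIdx 12 (cols.getD i 0) = _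
  simp only [basis_eq, ite_smul, one_smul, zero_smul, Finset.sum_ite_eq', Finset.mem_univ, if_true]

/-- Additive maps agreeing on the basis agree. -/
theorem ext_basis {H : Type*} [AddCommGroup H] {f g : Cl →+ H}
    (h : ∀ j : Fin 12, f (ofIdx 12 (2 ^ (j : ℕ))) = g (ofIdx 12 (2 ^ (j : ℕ)))) (a : Cl) : f a = g a := by
  have e : a = ∑ j : Fin 12, (a j).val • ofIdx 12 (2 ^ (j : ℕ)) := by
    funext i
    rw [Finset.sum_apply, Finset.sum_congr rfl fun j _ => show ((a j).val • ofIdx 12 (2 ^ (j : ℕ))) i =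
      if i = j then a j else 0 by rw [Pi.smul_apply, basis_eq, nsmul_eq_mul, ZMod.natCast_val, ZMod.cast_id,
        mul_ite, mul_one, mul_zero], Finset.sum_ite_eq, if_pos (Finset.mem_univ i)]
  rw [e, map_sum, map_sum]
  simp only [map_nsmul, h]

/-- The columns of a composite. -/
def mulCols (c c' : List ℕ) : List ℕ := c'.map (xorCols c)

theorem linC_comp {c c' : List ℕ} (hl : c.length = 12) (hl' : c'.length = 12) (a : Cl) :
    linC c (linC c' a) = linC (mulCols c c') a := by
  refine ext_basis (f := (linC c).comp (linC c')) (g := linC (mulCols c c')) (fun j => ?_) a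
  rw [AddMonoidHom.comp_apply, linC_basis, linC_basis, linC_idx hl, mulCols]
  rw [List.getD_eq_getElem _ _ (by rw [hl']; exact j.2), List.getD_eq_getElem _ _ (by rw [List.length_map, hl']; exact j.2),
    List.getElem_map]

/-- The identity columns. -/
def idCols : List ℕ := (List.range 12).map fun j => 2 ^ j

theorem linC_id (a : Cl) : linC idCols a = a := by
  refine ext_basis (f := linC idCols) (g := AddMonoidHom.id Cl) (fun j => ?_) a
  rw [linC_basis, AddMonoidHom.id_apply]
  congr 1
  revert j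
  decide

/-- The vector with given binary coordinates. -/
def toVec : Cl →+ V6 :=
  AddMonoidHom.mk' (fun a r => bitF (a ⟨2 * (r : ℕ), by omega⟩) + bitF (a ⟨2 * (r : ℕ) + 1, by omega⟩) * Four.w)
    fun a c => funext fun r => by
      simp only [Pi.add_apply, bitF_add]
      ring

/-- The binary coordinates of a vector. -/
def ofVec (v : V6) : Cl := fun j =>
  if (toN (v ⟨(j : ℕ) / 2, by omega⟩)).testBit ((j : ℕ) % 2) then 1 else 0

theorem four_bits : ∀ p q : ZMod 2,
    (if (toN (bitF p + bitF q * Four.w)).testBit 0 then (1 : ZMod 2) else 0) = p ∧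
    (if (toN (bitF p + bitF q * Four.w)).testBit 1 then (1 : ZMod 2) else 0) = q := by decide

theorem four_back : ∀ x : Four, bitF (if (toN x).testBit 0 then (1 : ZMod 2) else 0) +
    bitF (if (toN x).testBit 1 then (1 : ZMod 2) else 0) * Four.w = x := by decide

theorem ofVec_toVec (a : Cl) : ofVec (toVec a) = a := funext fun j => by
  obtain ⟨h0, h1⟩ := four_bits (a ⟨2 * ((j : ℕ) / 2), by omega⟩) (a ⟨2 * ((j : ℕ) / 2) + 1, by omega⟩)
  show (if (toN (bitF _ + bitF _ * Four.w)).testBit ((j : ℕ) % 2) then (1 : ZMod 2) else 0) = _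
  rcases Nat.mod_two_eq_zero_or_one (j : ℕ) with h | h
  · rw [h, h0]; exact congrArg a (Fin.ext (by simp only; omega))
  · rw [h, h1]; exact congrArg a (Fin.ext (by simp only; omega))

theorem toVec_ofVec (v : V6) : toVec (ofVec v) = v := funext fun r => by
  show bitF (ofVec v _) + bitF (ofVec v _) * Four.w = v r
  have e0 : (2 * (r : ℕ)) / 2 = r ∧ (2 * (r : ℕ)) % 2 = 0 := ⟨by omega, by omega⟩
  have e1 : (2 * (r : ℕ) + 1) / 2 = r ∧ (2 * (r : ℕ) + 1) % 2 = 1 := ⟨by omega, by omega⟩
  simp only [ofVec, e0, e1, Fin.eta]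
  exact four_back (v r)

/-- The additive bijection. -/
def vecEquiv : Cl ≃+ V6 where
  toFun := toVec
  invFun := ofVec
  left_inv := ofVec_toVec
  right_inv := toVec_ofVec
  map_add' := map_add toVec

end CfsgLib.Spor.MonsterType.Six
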