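import Cfsg.Agent.Lib.Spor.MonsterType.Six.Certs
import Cfsg.Agent.Lib.Spor.MonsterType.Six.Linear

/-!
# The fixed lattice of the element with six fixed points, and elements of its centralizer
-/

set_option autoImplicit false

namespace CfsgLib.Spor.MonsterType.Six

open Subgroup CfsgLib.Spor CfsgLib.Spor.Leech CfsgLib.Spor.MonsterType.Seven
open CfsgLib.Spor.MonsterType.Prime (Std ofIdx xorCols)
open Cfsg (leechLattice Co0 sqNorm GolayPt M24 supports golayCode dotInt)
open scoped Pointwise

noncomputable section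

/-- The automorphism of order three. -/
def P6 : Co0 := prmAut rho_mem

theorem P6_pow (k : ℕ) : P6 ^ k = prmHom (⟨rho, rho_mem⟩ ^ k) := by rw [map_pow]; rfl

theorem P6_pow_three : P6 ^ 3 = 1 := by
  rw [P6_pow, show (⟨rho, rho_mem⟩ : M24) ^ 3 = 1 from Subtype.ext rho_pow_three, map_one]

theorem fixed_iff (v : leechLattice) :
    P6 • v = v ↔ ∀ p, (v : GolayPt → ℤ) (fnPt sixElt p) = (v : GolayPt → ℤ) p := by
  rw [P6, Prime.prm_fixed_iff]; simp only [rho_apply]

/-- The basis vectors. -/
def Bv (i : Fin 12) : leechLattice := ⟨_, leechTest_spec (bTab_facts.1 i)⟩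

/-- The dual vectors. -/
def Wv (i : Fin 12) : leechLattice := ⟨_, leechTest_spec (bTab_facts.2.1 i)⟩

/-- The standard data. -/
def S6 : Std 3 12 where
  P := P6
  hpow := P6_pow_three
  B := Bv
  W := Wv
  fixB i := (fixed_iff _).2 (bTab_facts.2.2.1 i)
  dual := bTab_facts.2.2.2
  expand v hv := by
    refine Prime.expand_of_table orb orbPt (B := Bv) (W := Wv) expand_facts fun q => ?_
    obtain ⟨k, hk⟩ := orb_facts.2 q
    have hiter : ∀ (k : ℕ) (p : GolayPt), (v : GolayPt → ℤ) ((fnPt sixElt)^[k] p) = (v : GolayPt → ℤ) p := by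
      intro k
      induction k with
      | zero => intro p; rfl
      | succ k ih => intro p; rw [Function.iterate_succ_apply', (fixed_iff v).1 hv, ih]
    conv_rhs => rw [← hk, hiter]
  std := eight none
  std_fix := by rw [P6, Prime.prm_eight, rho_apply, std_facts.2]
  std_norm := sqNorm_eight none

theorem testBit_bitSum : ∀ (d : ℕ) (f : Fin d → Bool) (j : Fin d),
    (∑ i : Fin d, if f i then 2 ^ (i : ℕ) else 0).testBit j = f j
  | 0, _, j => j.elim0
  | d + 1, f, j => by
    have e : (∑ i : Fin (d + 1), if f i then 2 ^ (i : ℕ) else 0) =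
        2 * (∑ i : Fin d, if f i.succ then 2 ^ (i : ℕ) else 0) + (f 0).toNat := by
      rw [Fin.sum_univ_succ, Finset.mul_sum, add_comm]
      congr 1
      · refine Finset.sum_congr rfl fun i _ => ?_
        split_ifs <;> simp [pow_succ, mul_comm]
      · cases f 0 <;> simp
    rw [e]
    refine Fin.cases ?_ (fun i => ?_) j
    · rw [Fin.val_zero, Nat.testBit_zero]
      cases f 0 <;> simp [Nat.add_mod]
    · rw [Fin.val_succ, Nat.testBit_succ, ← testBit_bitSum d (fun i => f i.succ) i]
      congr 1
      cases f 0 <;> simp <;> omega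

theorem bitSum_lt (x : GolayPt → ℤ) : clsIdx x < 4096 := by
  refine lt_of_le_of_lt (Finset.sum_le_sum fun j _ => ?_) (show ∑ j : Fin 12, 2 ^ (j : ℕ) < 4096 by decide)
  split_ifs <;> simp

/-- The class from the index computed on the coordinates. -/
theorem cls_eq (v : leechLattice) : S6.cls v = ofIdx 12 (clsIdx (v : GolayPt → ℤ)) := by
  funext j
  have hb := testBit_bitSum 12 (fun i => decide ((dotInt (v : GolayPt → ℤ) (vecFn (wTab.getD i [])) / 8) % 2 = 1)) j
  simp only [decide_eq_true_eq] at hb
  rw [Prime.ofIdx, clsIdx, hb]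
  show ((S6.coord v j : ℤ) : ZMod 2) = _
  have hc : S6.coord v j = dotInt (v : GolayPt → ℤ) (vecFn (wTab.getD j [])) / 8 := rfl
  rw [hc]
  generalize dotInt (v : GolayPt → ℤ) (vecFn (wTab.getD j [])) / 8 = t
  rcases Int.emod_two_eq_zero_or_one t with h | h
  · rw [if_neg (by simp [h]), (ZMod.intCast_zmod_eq_zero_iff_dvd t 2).2 (by omega)]
  · rw [if_pos (by simp [h]), ← ZMod.intCast_mod]
    show (((t % 2 : ℤ)) : ZMod 2) = 1
    rw [h, Int.cast_one]

theorem cls_std : S6.cls (eight none) = ofIdx 12 2048 := by rw [cls_eq, eight, std_facts.1]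

theorem colsAt_len (g : ℕ) : (colsAt g).length = 12 := by simp [colsAt]

/-- The action of an element from the images of the basis. -/
theorem actc_of_basis {x : ↥S6.cent} {g : ℕ}
    (h : ∀ j : Fin 12, S6.cls ((x : Co0) • Bv j) = ofIdx 12 ((colsAt g).getD j 0)) (a : Cl) :
    S6.actc x a = linC (colsAt g) a := by
  refine ext_basis (fun j => ?_) a
  rw [S6.actc_idx x (colsAt_len g) h, linC_idx (colsAt_len g)]

theorem cAut6_comm : matAut cTab cTabT cTab_cert cTabT_cert ∈ S6.cent := by
  refine mem_centralizer_singleton_iff.2 (co0_ext fun i => Subtype.ext (funext fun p => ?_))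
  obtain ⟨p, rfl⟩ := rho.surjective p
  show ((_ * P6 : Co0) • eight i : leechLattice).1 _ = ((P6 * _ : Co0) • eight i : leechLattice).1 _
  rw [mul_smul, mul_smul, P6, Prime.prm_eight, Prime.prm_apply, matAut_eight, matAut_eight, rho_apply, rho_apply,
    cTab_comm]

/-- Each entry of the product table is the action of an element of the centralizer. -/
theorem exists_val : ∀ g, g < 283 → ∃ x : ↥S6.cent, ∀ a, S6.actc x a = linC (colsAt g) a := by
  intro g
  induction g using Nat.strong_induction_on with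
  | _ g ih =>
    intro hg
    by_cases h3 : g < 3
    · have hc : sixCodes.getD g 0 ∈ sixCodes := by
        rw [List.getD_eq_getElem _ _ (by rw [gen_facts.2.2.1]; exact h3)]; exact List.getElem_mem _
      have h := List.all_eq_true.1 gen_facts.1 _ hc
      simp only [Bool.and_eq_true] at h
      have hM := permOf_mem_M24 h.1
      have hcode := isPermCode_of_isM24Code h.1
      refine ⟨⟨prmAut hM, (Prime.prmAut_mem_iff rho_mem hM).2 (eq_mul_of_commCodes hcode sixElt_code h.2)⟩,
        actc_of_basis fun j => ?_⟩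
      rw [cls_eq, ← cls_prm ⟨g, h3⟩ j]
      refine congrArg _ (Finset.sum_congr rfl fun i _ => ?_)
      have e : dotInt ((prmAut hM • Bv j : leechLattice) : GolayPt → ℤ) (vecFn (wTab.getD i [])) =
          dotPerm (sixCodes.getD g 0) (vecFn (bTab.getD j [])) (vecFn (wTab.getD i [])) := by
        rw [dotInt, dotPerm]
        refine (Equiv.sum_comp (permOf (sixCodes.getD g 0)) _).symm.trans (Finset.sum_congr rfl fun p _ => ?_)
        rw [Prime.prm_apply, permOf_apply hcode p]
        rfl
      show (if dotInt ((prmAut hM • Bv j : leechLattice) : GolayPt → ℤ) _ / 8 % 2 = 1 then _ else _) = _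
      rw [e]
    by_cases h9 : g < 9
    · obtain ⟨k, rfl⟩ : ∃ k, g = 3 + k := ⟨g - 3, by omega⟩
      have hk : k < 6 := by omega
      have hm : sixMasks.getD k 0 ∈ sixMasks := by
        rw [List.getD_eq_getElem _ _ (by rw [gen_facts.2.2.2]; exact hk)]; exact List.getElem_mem _
      have h := List.all_eq_true.1 gen_facts.2.1 _ hm
      simp only [Bool.and_eq_true, beq_iff_eq] at h
      have hinv : ∀ p, (rho p ∈ pts (sixMasks.getD k 0) ↔ p ∈ pts (sixMasks.getD k 0)) := fun p => by
        have e : permOf sixElt • pts (sixMasks.getD k 0) = pts (sixMasks.getD k 0) := by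
          rw [smul_pts sixElt_code, h.2]
        conv_lhs => rw [← e]
        exact Finset.smul_mem_smul_finset_iff (permOf sixElt)
      refine ⟨⟨sgnAut (Leech.pts_supports h.1), (Prime.sgnAut_mem_iff rho_mem _).2 hinv⟩,
        actc_of_basis fun j => ?_⟩
      rw [cls_eq, ← cls_sgn ⟨k, hk⟩ j]
      refine congrArg _ (congrArg clsIdx (funext fun p => ?_))
      show ((sgnAut (Leech.pts_supports h.1) • Bv j : leechLattice) : GolayPt → ℤ) p = _
      rw [sgnAut_smul]
      simp only [mem_pts]
      rfl
    by_cases h10 : g < 10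
    · obtain rfl : g = 9 := by omega
      refine ⟨⟨_, cAut6_comm⟩, actc_of_basis fun j => ?_⟩
      rw [cls_eq]
      show ofIdx 12 (clsIdx ((matAut cTab cTabT cTab_cert cTabT_cert • Bv j : leechLattice) : GolayPt → ℤ)) = _
      rw [matAut_smul]
      exact congrArg _ (cls_c j)
    obtain ⟨k, rfl⟩ : ∃ k, g = 10 + k := ⟨g - 10, by omega⟩
    obtain ⟨ha, hb, e⟩ := step_facts.2 ⟨k, by omega⟩
    obtain ⟨x, hx⟩ := ih _ ha (lt_trans ha hg)
    obtain ⟨y, hy⟩ := ih _ hb (lt_trans hb hg)
    refine ⟨x * y, fun a => ?_⟩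
    rw [S6.actc_mul, hy, hx, linC_comp (colsAt_len _) (colsAt_len _)]
    exact congrArg (fun c => linC c a) e.symm

end

end CfsgLib.Spor.MonsterType.Six
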