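import Cfsg.Agent.Lib.Spor.MonsterType.Six.Basic

/-!
# An upper bound for the order of the centralizer: the long classes and the monomial stabiliser
-/

set_option autoImplicit false

namespace CfsgLib.Spor.MonsterType.Six

open Subgroup CfsgLib.Spor CfsgLib.Spor.Leech CfsgLib.Spor.MonsterType.Seven
open CfsgLib.Spor.MonsterType.Prime (Std ofIdx xorCols dotHom dotHom_apply)
open Cfsg (leechLattice Co0 sqNorm GolayPt M24 supports golayCode dotInt)
open scoped Pointwise

noncomputable section

theorem selSum_eq : ∀ {k : ℕ} (l : List ℕ), l.length = k → ∀ n : ℕ,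
    selSum l n = ∑ i : Fin k, if n.testBit i then l.getD i 0 else 0
  | 0, [], _, n => by simp [selSum]
  | k + 1, c :: l, hl, n => by
    rw [selSum, selSum_eq l (Nat.succ.inj hl) (n / 2), Fin.sum_univ_succ]
    congr 1
    · by_cases h : n % 2 = 1 <;> simp [h, Nat.testBit_zero]
    · refine Finset.sum_congr rfl fun i _ => ?_
      simp [Nat.testBit_succ]

theorem sum_modEq {ι : Type*} {s : Finset ι} {f g : ι → ℤ} {m : ℤ} (h : ∀ i ∈ s, f i ≡ g i [ZMOD m]) :
    ∑ i ∈ s, f i ≡ ∑ i ∈ s, g i [ZMOD m] := by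
  rw [Int.modEq_iff_dvd, ← Finset.sum_sub_distrib]
  exact Finset.dvd_sum fun i hi => Int.modEq_iff_dvd.1 (h i hi)

/-- The representative with given bits. -/
def repN (n : ℕ) : leechLattice := ∑ i : Fin 12, if n.testBit i then Bv i else 0

theorem repN_fixed (n : ℕ) : S6.P • repN n = repN n := by
  show Std.smulHom S6.P (repN n) = _
  rw [repN, map_sum]
  refine Finset.sum_congr rfl fun i _ => ?_
  split_ifs
  · exact S6.fixB i
  · exact map_zero _

theorem cls_repN (n : ℕ) : S6.cls (repN n) = ofIdx 12 n := by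
  have : repN n = ∑ i : Fin 12, (if n.testBit i then (1 : ℤ) else 0) • S6.B i := by
    refine Finset.sum_congr rfl fun i _ => ?_
    split_ifs
    · rw [one_smul]; rfl
    · rw [zero_smul]
  funext j
  rw [S6.cls_apply, this, S6.coord_sum, Prime.ofIdx]
  split_ifs <;> simp

theorem norm_repN (n : ℕ) : (8 : ℤ) * (qSum n : ℤ) ≡ sqNorm (repN n : GolayPt → ℤ) [ZMOD 32] := by
  have hself : sqNorm (repN n : GolayPt → ℤ) = dotInt (repN n : GolayPt → ℤ) (repN n : GolayPt → ℤ) := by
    simp only [sqNorm, dotInt, pow_two]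
  have hlin : ∀ w : GolayPt → ℤ, dotInt (repN n : GolayPt → ℤ) w =
      ∑ i : Fin 12, if n.testBit i then dotInt (vecFn (bTab.getD i [])) w else 0 := fun w => by
    rw [← dotHom_apply, repN, AddSubgroup.val_finsetSum, map_sum]
    refine Finset.sum_congr rfl fun i _ => ?_
    split_ifs
    · rfl
    · exact map_zero _
  have hsym : ∀ x w : GolayPt → ℤ, dotInt x w = dotInt w x := fun x w => by
    simp only [dotInt, mul_comm]
  have hq : (qSum n : ℤ) = ∑ i : Fin 12, if n.testBit i then
      ∑ j : Fin 12, (if n.testBit j then (((gramTab.getD i []).getD j 0 : ℕ) : ℤ) else 0) else 0 := by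
    rw [qSum, selSum_eq (k := 12) _ (by simp) n, Nat.cast_sum]
    refine Finset.sum_congr rfl fun i _ => ?_
    rw [List.getD_eq_getElem _ _ (by simp), List.getElem_map, List.getElem_range, selSum_eq (k := 12) _ (gram_len.2 i) n]
    by_cases h : n.testBit i
    · simp only [h, if_true, Nat.cast_sum, apply_ite (Nat.cast : ℕ → ℤ), Nat.cast_zero]
    · simp [h]
  rw [hself, hlin, hq, Finset.mul_sum]
  refine sum_modEq fun i _ => ?_
  split_ifs with hi
  · rw [hsym, hlin, Finset.mul_sum]
    refine sum_modEq fun j _ => ?_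
    split_ifs with hj
    · have h4 := gram_facts i j
      obtain ⟨t, ht⟩ := dot_dvd (Bv i).2 (Bv j).2
      rw [hsym (vecFn (bTab.getD j []))]
      change dotInt (vecFn (bTab.getD i [])) (vecFn (bTab.getD j [])) = 8 * t at ht
      rw [ht] at h4 ⊢
      refine Int.modEq_iff_dvd.2 ?_
      omega
    · simp
  · simp

theorem short_mask {n : ℕ} : ∀ {l : List ℕ}, (l.foldr (fun e m => 2 ^ shortIdx e ||| m) 0).testBit n = true →
    ∃ e ∈ l, shortIdx e = n
  | [], h => by simp at h
  | e :: l, h => by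
    rw [List.foldr_cons, Nat.testBit_or, Bool.or_eq_true, Nat.testBit_two_pow] at h
    rcases h with h | h
    · exact ⟨e, List.mem_cons_self, by simpa using h⟩
    · obtain ⟨e', he, h'⟩ := short_mask (l := l) h
      exact ⟨e', List.mem_cons_of_mem _ he, h'⟩

/-- The class of a fixed vector of norm 64 is on the list. -/
theorem clsIdx_long {v : leechLattice} (hfix : S6.P • v = v) (hn : sqNorm (v : GolayPt → ℤ) = 64) :
    clsIdx (v : GolayPt → ℤ) ∈ longs := by
  set n := clsIdx (v : GolayPt → ℤ) with hnv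
  refine List.mem_filter.2 ⟨List.mem_range.2 (bitSum_lt _), ?_⟩
  simp only [Bool.and_eq_true, Bool.not_eq_true']
  constructor
  · obtain ⟨u, hu⟩ := (S6.cls_eq_iff (repN_fixed n) hfix).1 (by rw [cls_repN, cls_eq])
    have h := norm_repN n
    have hexp : sqNorm (v : GolayPt → ℤ) = sqNorm (repN n : GolayPt → ℤ) +
        4 * dotInt (repN n : GolayPt → ℤ) (u : GolayPt → ℤ) + 4 * sqNorm (u : GolayPt → ℤ) := by
      rw [hu]
      simp only [sqNorm, dotInt, AddSubgroup.coe_add, Pi.add_apply, Finset.mul_sum, ← Finset.sum_add_distrib]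
      exact Finset.sum_congr rfl fun p _ => by ring
    obtain ⟨a, ha⟩ := dot_dvd (repN n).2 u.2
    obtain ⟨c, hc⟩ := sqNorm_dvd u.2
    rw [hn, ha, hc] at hexp
    have := Int.modEq_iff_dvd.1 h
    have h4 : qSum n % 4 = 0 := by omega
    simp [h4]
  · refine Bool.eq_false_iff.2 fun hb => ?_
    rw [← shortMask_eq] at hb
    obtain ⟨e, he, hen⟩ := short_mask hb
    have hs := List.all_eq_true.1 short_facts _ he
    simp only [Bool.and_eq_true, decide_eq_true_eq, beq_iff_eq] at hs
    set u : leechLattice := ⟨_, leechTest_spec hs.1.1⟩ with hu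
    have hufix : S6.P • u = u := (fixed_iff u).2 fun p => by
      show shortVec e (fnPt sixElt p) = shortVec e p
      rw [shortVec, orb_facts.1 p]; rfl
    have hc : S6.cls u = S6.cls v := by
      rw [cls_eq, cls_eq, show clsIdx (u : GolayPt → ℤ) = clsIdx (v : GolayPt → ℤ) from hs.2.trans hen]
    have := ((S6.cls_eq_iff hufix hfix).1 hc).norm_eq (by simpa [hu] using hs.1.2.le) hn.le
    rw [hn] at this
    have h2 : sqNorm (u : GolayPt → ℤ) < 64 := hs.1.2
    omega

/-- An element fixing the standard class is monomial with parts from the lists. -/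
theorem mono_of_fix {m : ↥S6.cent} (h : S6.actc m (ofIdx 12 2048) = ofIdx 12 2048) :
    ∃ code ∈ centCands, ∃ mk ∈ fixMasks, ∃ (hM : permOf code ∈ M24)
      (hc : pts mk ∈ supports (golayCode : Set (GolayPt → ZMod 2))), (m : Co0) = monoAut hM hc := by
  have hs : Cong (eight none) ((m : Co0) • eight none) := by
    refine (S6.cls_eq_iff S6.std_fix (S6.fixed_smul m.2 S6.std_fix)).1 ?_
    rw [← cls_std, S6.actc_cls m (v := eight none) S6.std_fix] at h
    exact h.symm
  obtain ⟨τ, hτ, c, hc, e⟩ := exists_monoAut (mem_crossStab_of_cong hs)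
  obtain ⟨h1, h2⟩ := (Prime.mono_comm_prm rho_mem hτ hc).1 (e ▸ m.2)
  obtain ⟨code, hcode, rfl⟩ := exists_centCand hτ h1
  refine ⟨code, hcode, maskPts c, List.mem_filter.2 ⟨(mem_supports_iff c).1 hc, ?_⟩, hτ,
    (pts_maskPts c).symm ▸ hc, ?_⟩
  · rw [beq_iff_eq]
    refine eq_of_pts_eq (permMask_lt sixElt_code _) (maskPts_lt c) ?_
    rw [← smul_pts sixElt_code, pts_maskPts]
    ext p
    obtain ⟨q, rfl⟩ := rho.surjective p
    rw [h2 q]
    exact Finset.smul_mem_smul_finset_iff (permOf sixElt)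
  · rw [e]
    congr 1
    exact (pts_maskPts c).symm

theorem card_cent_le : Nat.card ↥S6.cent ≤ 1701 * (1080 * 64) := by
  classical
  let f : ↥S6.cent → ℕ := fun x => clsIdx (((x : Co0) • eight none : leechLattice) : GolayPt → ℤ)
  have hf : ∀ x, f x ∈ longs.toFinset := fun x => List.mem_toFinset.2
    (clsIdx_long (S6.fixed_smul x.2 S6.std_fix) ((co0_norm _ _).trans (sqNorm_eight none)))
  let r : ℕ → ↥S6.cent := fun n => if h : ∃ x, f x = n then h.choose else 1
  have hr : ∀ x, f (r (f x)) = f x := fun x => by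
    have h : ∃ y, f y = f x := ⟨x, rfl⟩
    simp only [r, dif_pos h]
    exact h.choose_spec
  have hm : ∀ x : ↥S6.cent, S6.actc ((r (f x))⁻¹ * x) (ofIdx 12 2048) = ofIdx 12 2048 := fun x => by
    have e : ∀ y : ↥S6.cent, S6.actc y (ofIdx 12 2048) = ofIdx 12 (f y) := fun y => by
      rw [← cls_eq, ← cls_std, S6.actc_cls y (v := eight none) S6.std_fix]
    rw [S6.actc_mul, e x, ← hr x, ← e (r (f x)), hr x, ← S6.actc_mul, inv_mul_cancel, S6.actc_one]
  choose code hcode mk hmk hM hc he using fun x => mono_of_fix (hm x)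
  let g : ↥S6.cent → ↥longs.toFinset × ↥centCands.toFinset × ↥fixMasks.toFinset :=
    fun x => (⟨f x, hf x⟩, ⟨code x, List.mem_toFinset.2 (hcode x)⟩, ⟨mk x, List.mem_toFinset.2 (hmk x)⟩)
  have hg : Function.Injective g := by
    intro x y h
    have h1 : f x = f y := congrArg (fun t => (t.1 : ℕ)) h
    have h2 : code x = code y := congrArg (fun t => (t.2.1 : ℕ)) h
    have h3 : mk x = mk y := congrArg (fun t => (t.2.2 : ℕ)) h
    have e : ((r (f x))⁻¹ * x : ↥S6.cent) = (r (f y))⁻¹ * y := Subtype.ext (by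
      rw [he x, he y]; congr 1 <;> simp only [h2, h3])
    rw [h1] at e
    exact mul_left_cancel e
  refine (Nat.card_le_card_of_injective g hg).trans ?_
  rw [Nat.card_prod, Nat.card_prod, Nat.card_eq_fintype_card, Nat.card_eq_fintype_card, Nat.card_eq_fintype_card,
    Fintype.card_coe, Fintype.card_coe, Fintype.card_coe]
  exact Nat.mul_le_mul ((List.toFinset_card_le _).trans longs_len)
    (Nat.mul_le_mul ((List.toFinset_card_le _).trans centCands_len) ((List.toFinset_card_le _).trans fixMasks_len))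

end

end CfsgLib.Spor.MonsterType.Six
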