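import Cfsg.Agent.Lib.Spor.MonsterType.Six.Data
import Cfsg.Agent.Lib.Spor.SylowSeven

/-!
# The permutations of the Mathieu group commuting with the element of order three fixing six points
-/

set_option autoImplicit false

namespace CfsgLib.Spor.MonsterType.Six

open CfsgLib.Spor
open Cfsg (GolayPt M24)

set_option maxRecDepth 100000

/-- The images of the first moved base point, with the base indices they go to. -/
def sixLinks : List (ℕ × ℕ) := [(2, sixElt), (3, sixSq)]

/-- Consistency of base images with commuting with the element. -/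
def okSix (l : List ℕ) : Bool :=
  ([0, 4, 5, 6].all fun i => !(Nat.ble (i + 1) l.length) || (fixMaskOf sixElt).testBit (l.getD i 0)) &&
    sixLinks.all fun q => !(Nat.ble (q.1 + 1) l.length) || (permFn q.2 (l.getD 1 0) == l.getD q.1 0)

theorem sixElt_facts : isM24Code sixElt = true ∧ isM24Code sixSq = true ∧ powCode sixElt 2 = sixSq ∧
    powCode sixElt 3 = idPacked ∧
    [0, 4, 5, 6].all (fun i => (fixMaskOf sixElt).testBit (basePts.getD i 0)) = true ∧
    sixLinks.all (fun q => decide (q.1 < 7) && (permFn q.2 (basePts.getD 1 0) == basePts.getD q.1 0)) = true ∧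
    pop 24 (fixMaskOf sixElt) = 6 := by decide +kernel

theorem sixElt_code : isPermCode sixElt = true := isPermCode_of_isM24Code sixElt_facts.1

/-- The permutation. -/
noncomputable def rho : Equiv.Perm GolayPt := permOf sixElt

theorem rho_mem : rho ∈ M24 := permOf_mem_M24 sixElt_facts.1

theorem rho_apply (p : GolayPt) : rho p = fnPt sixElt p := permOf_apply sixElt_code p

theorem rho_pow_three : rho ^ 3 = 1 := by
  rw [rho, ← (permOf_powCode sixElt_code 3).1, sixElt_facts.2.2.2.1, permOf_idPacked]

theorem links_perm {q : ℕ × ℕ} (h : q ∈ sixLinks) :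
    isPermCode q.2 = true ∧ ∃ m : ℕ, permOf q.2 = rho ^ m := by
  simp only [sixLinks, List.mem_cons, List.not_mem_nil, or_false] at h
  rcases h with rfl | rfl
  · exact ⟨sixElt_code, 1, (pow_one _).symm⟩
  · refine ⟨isPermCode_of_isM24Code sixElt_facts.2.1, 2, ?_⟩
    show permOf sixSq = _
    rw [← sixElt_facts.2.2.1]
    exact (permOf_powCode sixElt_code 2).1

/-- Candidates for the centralizer. -/
def centCands : List ℕ := (chainCands okSix 7).filter fun c => commCodes c sixElt

theorem centCands_len : centCands.length ≤ 1080 := by decide +kernel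

/-- The candidates cover the centralizer. -/
theorem exists_centCand {τ : Equiv.Perm GolayPt} (hτ : τ ∈ M24) (h : τ * rho = rho * τ) :
    ∃ code ∈ centCands, permOf code = τ := by
  have hpow : ∀ (m : ℕ) (p : GolayPt), τ ((rho ^ m) p) = (rho ^ m) (τ p) := fun m p =>
    congrArg (fun g : Equiv.Perm GolayPt => g p) ((show Commute τ rho from h).pow_right m).eq
  obtain ⟨c, hc, rfl⟩ := exists_cand okSix hτ fun n hn _ => by
    have get : ∀ i < n, ∀ d, ((List.range n).map fun j => ptIdx (τ (bpt j))).getD i d = ptIdx (τ (bpt i)) :=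
      fun i hi d => by
        rw [List.getD_eq_getElem _ _ (by simpa using hi), List.getElem_map, List.getElem_range]
    simp only [okSix, imgsOf, List.length_map, List.length_range, Bool.and_eq_true, List.all_eq_true,
      Bool.or_eq_true, Bool.not_eq_true', beq_iff_eq]
    refine ⟨fun i hi => ?_, fun q hq => ?_⟩
    · by_cases hin : i < n
      swap
      · exact Or.inl (Bool.eq_false_iff.2 fun e => hin (Nat.le_of_ble_eq_true e))
      right
      rw [get i hin]
      have hi7 : i < 7 := by fin_cases hi <;> norm_num
      have hb : bpt i ∈ fixSet rho := by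
        rw [rho, fixSet_permOf sixElt_code, mem_pts, bpt, ptIdx_idxPt _ (basePts_lt i hi7)]
        exact List.all_eq_true.1 sixElt_facts.2.2.2.2.1 i hi
      have h1 : τ (bpt i) ∈ fixSet rho := Finset.mem_filter.2 ⟨Finset.mem_univ _, by
        have := hpow 1 (bpt i)
        rw [pow_one, (Finset.mem_filter.1 hb).2] at this
        exact this.symm⟩
      rwa [rho, fixSet_permOf sixElt_code, mem_pts] at h1
    · by_cases hin : q.1 < n
      swap
      · exact Or.inl (Bool.eq_false_iff.2 fun e => hin (Nat.le_of_ble_eq_true e))
      right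
      have hf := List.all_eq_true.1 sixElt_facts.2.2.2.2.2.1 q hq
      simp only [Bool.and_eq_true, decide_eq_true_eq, beq_iff_eq] at hf
      obtain ⟨h7, he⟩ := hf
      have h1n : 1 < n := by
        fin_cases hq <;> simp at hin <;> omega
      obtain ⟨hpc, m, hp⟩ := links_perm hq
      rw [get q.1 hin, get 1 h1n]
      have hb : (rho ^ m) (bpt 1) = bpt q.1 := by
        rw [← hp, bpt, permOf_idxPt hpc (basePts_lt 1 (by norm_num)), he]
        rfl
      rw [← hb, hpow, ← hp, permFn_eq_ptIdx hpc (ptIdx_lt _), idxPt_ptIdx]
  exact ⟨c, List.mem_filter.2 ⟨hc, commCodes_of (isPermCode_chainCands okSix 7 c hc) sixElt_code h⟩, rfl⟩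

end CfsgLib.Spor.MonsterType.Six
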