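import Cfsg.Agent.Lib.Spor.MonsterType.Six.Cent
import Cfsg.Agent.Lib.Spor.MonsterType.Seven.Classes
import Cfsg.Agent.Lib.Spor.MonsterType.Prime.Mono

/-!
# Finite checks of the tables for the element with six fixed points
-/

set_option autoImplicit false

namespace CfsgLib.Spor.MonsterType.Six

open CfsgLib.Spor CfsgLib.Spor.Leech
open Cfsg (GolayPt sqNorm dotInt)
open CfsgLib.Spor.MonsterType.Prime (xorCols)

set_option maxRecDepth 100000

/-- The vector of a list. -/
def vecFn (l : List ℤ) (p : GolayPt) : ℤ := l.getD (ptIdx p) 0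

/-- The orbit of a point. -/
def orb (p : GolayPt) : Fin 12 := ⟨(orbMasks.findIdx fun m => m.testBit (ptIdx p)) % 12, Nat.mod_lt _ (by norm_num)⟩

/-- A point of an orbit. -/
def orbPt (g : Fin 12) : GolayPt := idxPt (orbPts.getD g 0)

/-- The class of an entry of the table of short vectors. -/
def shortIdx (e : ℕ) : ℕ := e % 4096

/-- The short vector of an entry. -/
def shortVec (e : ℕ) (p : GolayPt) : ℤ := ((e >>> (12 + 4 * (orb p : ℕ))) % 16 : ℕ) - (8 : ℤ)

/-- The index of the class of a vector. -/
def clsIdx (x : GolayPt → ℤ) : ℕ :=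
  ∑ j : Fin 12, if (dotInt x (vecFn (wTab.getD j [])) / 8) % 2 = 1 then 2 ^ (j : ℕ) else 0

theorem bTab_facts : (∀ i : Fin 12, leechTest (vecFn (bTab.getD i [])) = true) ∧
    (∀ i : Fin 12, leechTest (vecFn (wTab.getD i [])) = true) ∧
    (∀ i : Fin 12, ∀ p, vecFn (bTab.getD i []) (fnPt sixElt p) = vecFn (bTab.getD i []) p) ∧
    (∀ i j : Fin 12, dotInt (vecFn (bTab.getD i [])) (vecFn (wTab.getD j [])) = if i = j then 8 else 0) := by
  refine ⟨by decide +kernel, by decide +kernel, by decide +kernel, by decide +kernel⟩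

theorem orb_facts : (∀ p, orb (fnPt sixElt p) = orb p) ∧
    (∀ p, ∃ k : Fin 3, (fnPt sixElt)^[(k : ℕ)] (orbPt (orb p)) = p) := by
  refine ⟨by decide +kernel, by decide +kernel⟩

theorem expand_facts : ∀ g q, ∑ j : Fin 12, dotInt (Prime.indVec orb g) (vecFn (wTab.getD j [])) *
    vecFn (bTab.getD j []) q = if orb q = g then 8 else 0 := by decide +kernel

theorem cTab_cert : MatCert cTab cTabT :=
  ⟨by decide +kernel, by decide +kernel, by decide +kernel, by decide +kernel, by decide +kernel⟩

theorem cTabT_cert : MatCert cTabT cTab :=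
  ⟨by decide +kernel, by decide +kernel, by decide +kernel, by decide +kernel, by decide +kernel⟩

theorem cTab_comm : ∀ i p, tabEntry cTab (fnPt sixElt i) (fnPt sixElt p) = tabEntry cTab i p := by decide +kernel

/-- The columns of an entry of the product table. -/
def colsAt (g : ℕ) : List ℕ := (List.range 12).map fun j => (valTab.getD g 0 >>> (12 * j)) % 4096

/-- The inner product of a permuted vector. -/
def dotPerm (code : ℕ) (x w : GolayPt → ℤ) : ℤ := ∑ p, x p * w (fnPt code p)

/-- The index of the class of a permuted vector. -/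
def clsPerm (code : ℕ) (x : GolayPt → ℤ) : ℕ :=
  ∑ j : Fin 12, if (dotPerm code x (vecFn (wTab.getD j [])) / 8) % 2 = 1 then 2 ^ (j : ℕ) else 0

theorem cls_prm : ∀ k : Fin 3, ∀ j : Fin 12,
    clsPerm (sixCodes.getD k 0) (vecFn (bTab.getD j [])) = (colsAt k).getD j 0 := by decide +kernel

theorem cls_sgn : ∀ k : Fin 6, ∀ j : Fin 12,
    clsIdx (fun p => if (sixMasks.getD k 0).testBit (ptIdx p) then -vecFn (bTab.getD j []) p
      else vecFn (bTab.getD j []) p) = (colsAt (3 + k)).getD j 0 := by decide +kernel

theorem cls_c : ∀ j : Fin 12, clsIdx (matVec cTab (vecFn (bTab.getD j []))) = (colsAt 9).getD j 0 := by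
  decide +kernel

theorem gen_facts : sixCodes.all (fun c => isM24Code c && commCodes c sixElt) = true ∧
    sixMasks.all (fun m => codeTest m && (permMask sixElt m == m)) = true ∧
    sixCodes.length = 3 ∧ sixMasks.length = 6 := by
  refine ⟨by decide +kernel, by decide +kernel, by decide +kernel, by decide +kernel⟩

theorem step_facts : stepTab.length = 273 ∧ ∀ k : Fin 273, (stepTab.getD k (0, 0)).1 < 10 + (k : ℕ) ∧
    (stepTab.getD k (0, 0)).2 < 10 + (k : ℕ) ∧
    colsAt (10 + k) = (colsAt (stepTab.getD k (0, 0)).2).map (xorCols (colsAt (stepTab.getD k (0, 0)).1)) := by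
  refine ⟨by decide +kernel, by decide +kernel⟩

theorem std_facts : clsIdx (Pi.single none 8) = 2048 ∧ fnPt sixElt none = none := by decide +kernel

/-- The invariant sign sets. -/
def fixMasks : List ℕ := codeList.filter fun m => permMask sixElt m == m

theorem fixMasks_len : fixMasks.length ≤ 64 := by decide +kernel

theorem short_facts : shortTab.all (fun e => leechTest (shortVec e) && decide (sqNorm (shortVec e) < 64) &&
    (clsIdx (shortVec e) == shortIdx e)) = true := by decide +kernel

theorem shortMask_eq : shortTab.foldr (fun e m => 2 ^ shortIdx e ||| m) 0 = shortMask := by decide +kernel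

theorem gram_facts : ∀ i j : Fin 12, (dotInt (vecFn (bTab.getD i [])) (vecFn (bTab.getD j [])) / 8 -
    (((gramTab.getD i []).getD j 0 : ℕ) : ℤ)) % 4 = 0 := by decide +kernel

/-- The sum of the selected entries. -/
def selSum : List ℕ → ℕ → ℕ
  | [], _ => 0
  | c :: l, n => (if n % 2 = 1 then c else 0) + selSum l (n / 2)

/-- The sum of the Gram entries over the selected rows and columns. -/
def qSum (n : ℕ) : ℕ := selSum ((List.range 12).map fun i => if n.testBit i then selSum (gramTab.getD i []) n else 0) n

/-- The classes that may be long. -/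
def longs : List ℕ := (List.range 4096).filter fun n => Nat.beq (qSum n % 4) 0 && !(shortMask.testBit n)

theorem longs_len : longs.length ≤ 1701 := by decide +kernel

theorem gram_len : gramTab.length = 12 ∧ (∀ i : Fin 12, (gramTab.getD i []).length = 12) := by decide +kernel

end CfsgLib.Spor.MonsterType.Six
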