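import Cfsg.Agent.Lib.Spor.MonsterType.Six.Action
import Cfsg.Agent.Lib.Spor.MonsterType.Prime.Standard
import Cfsg.Agent.Lib.Spor.MonsterType.Prime.ThreeClass

/-!
# A 3-central subgroup of the joint centralizer in standard position; the large Fischer type
-/

set_option autoImplicit false
set_option maxRecDepth 100000

namespace CfsgLib.Spor.MonsterType.Six

open Subgroup CfsgLib.Spor CfsgLib.Spor.Leech CfsgLib.Spor.MonsterType.Seven CfsgLib.Spor.LargeFischer
open CfsgLib.Spor.MonsterType.Prime (perHom)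
open Cfsg (leechLattice Co0 GolayPt M24)

noncomputable section

theorem card_fix_rho : (fixSet rho).card = 6 := by
  rw [rho, fixSet_permOf sixElt_code, card_pts, sixElt_facts.2.2.2.2.2.2]

theorem orderOf_rhoM : orderOf (⟨rho, rho_mem⟩ : M24) = 3 := by
  rw [← orderOf_coe]; exact orderOf_rho

/-- An element of order three of the cross stabiliser with six fixed points is conjugate to the standard one. -/
theorem exists_conj_standard {y : crossStab} (hy : y ^ 3 = 1) (hy1 : y ≠ 1)
    (h6 : (fixSet (perHom y : Equiv.Perm GolayPt)).card = 6) :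
    ∃ k : Co0, ∃ i : ℕ, ¬3 ∣ i ∧ k * (y : Co0) * k⁻¹ = S6.P ^ i := by
  classical
  haveI : Fact (Nat.Prime 3) := ⟨Nat.prime_three⟩
  have ho : orderOf (perHom y) = 3 := by
    refine orderOf_eq_prime (by rw [← map_pow, hy, map_one]) fun h1 => hy1 ?_
    have hsg : y ∈ signs := by rw [← Prime.perHom_ker, MonoidHom.mem_ker]; exact h1
    rw [← hy, pow_succ, signs_sq hsg, one_mul]
  obtain ⟨l, hl, el⟩ := conj_of_same_rep
    (fun r hr => ((Bool.and_eq_true _ _).mp (List.all_eq_true.1 reps_three.1 r hr)).1)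
    (by rw [reps_three.2]; decide) (exists_rep_three (perHom y).2 (by rw [orderOf_coe]; exact ho))
    (exists_rep_three rho_mem orderOf_rho) (by rw [h6, card_fix_rho])
  obtain ⟨k, hk⟩ := Prime.exists_conj_prm hy orderOf_rhoM ⟨⟨l, hl⟩, Subtype.ext el⟩
  exact ⟨k, 1, by norm_num, (congrArg Subtype.val hk).trans (pow_one _).symm⟩

variable {G : Type*} [Group G] [Finite G] {z : G} {Q : Subgroup G} {R : leechLattice → G → Prop}
  {π : ↥(centralizer ({z} : Set G)) →* Cfsg.Spor.Co1}

theorem exists_standard (D : Data z Q R π) (hw : ∃ g : G, g * z * g⁻¹ ∈ Q ∧ g * z * g⁻¹ ≠ z) {g : G}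
    (hgQ : g * z * g⁻¹ ∈ Q) (hne : g * z * g⁻¹ ≠ z) (Y : Subgroup G)
    (hY : Y ≤ centralizer ({z, g * z * g⁻¹} : Set G)) (hY3 : Nat.card Y = 3)
    (hc : ∃ P : Sylow 3 ↥(centralizer ({z, g * z * g⁻¹} : Set G)),
      Y.subgroupOf (centralizer ({z, g * z * g⁻¹} : Set G)) ≤
        (center ↥(P : Subgroup ↥(centralizer ({z, g * z * g⁻¹} : Set G)))).map
          (P : Subgroup ↥(centralizer ({z, g * z * g⁻¹} : Set G))).subtype) :
    ∃ (R' : leechLattice → G → Prop) (π' : ↥(centralizer ({z} : Set G)) →* Cfsg.Spor.Co1)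
      (D' : Data z Q R' π') (b : G), Y = zpowers b ∧ Prime.Elt D' S6 b := by
  haveI : Fact (Nat.Prime 3) := ⟨Nat.prime_three⟩
  obtain ⟨h, himg, -⟩ := Prime.exists_cross D hgQ hne
  obtain ⟨b, hb, y, rfl, hord, hy3, hy1, hy⟩ := Prime.exists_preimage D (by norm_num) himg Y hY hY3
  have h6 := (Prime.three_central_iff D himg hb (hY (mem_zpowers b)) hord hy3 hy1 hy).1 hc
  obtain ⟨k, i, hi, hki⟩ := exists_conj_standard hy3 hy1 h6
  obtain ⟨R', π', D', b', e, E⟩ := Prime.exists_standard D hw (by norm_num) hb hord hy hi hki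
  exact ⟨R', π', D', b', e, E⟩

omit [Finite G] in
/-- The structure of the centralizer from its quotient by the extraspecial subgroup. -/
theorem large_fischer_of_iso {z : G} {Rb : Subgroup (centralizer ({z} : Set G))} [Rb.Normal]
    (hset : Cfsg.IsExtraspecialCentralizerSetting z Rb 6)
    (Φ : (centralizer ({z} : Set G)) ⧸ Rb ≃* Tgrp) : Cfsg.IsOfLargeFischerTypeAt z Rb := by
  let f : ↥(centralizer ({z} : Set G)) →* Tgrp := Φ.toMonoidHom.comp (QuotientGroup.mk' Rb)
  have hf : Function.Surjective f := Φ.surjective.comp (QuotientGroup.mk'_surjective _)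
  have hker : ∀ x, f x = 1 ↔ x ∈ Rb := fun x =>
    (Φ.map_eq_one_iff).trans (QuotientGroup.eq_one_iff x)
  have hle : Rb ≤ Nsub.comap f := fun x hx => by rw [mem_comap, (hker x).2 hx]; exact one_mem _
  refine ⟨hset, Nsub.comap f, Msub.comap f, inferInstance, inferInstance, hle, comap_mono Nsub_le, ?_, ?_, ?_⟩
  · have hs := MonoidHom.subgroupComap_surjective_of_surjective f Nsub hf
    have h := (f.subgroupComap Nsub).ker.card_mul_index
    rw [index_ker, MonoidHom.range_eq_top.2 hs, card_top, card_Nsub,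
      show (f.subgroupComap Nsub).ker = Rb.subgroupOf (Nsub.comap f) from by
        ext x
        rw [MonoidHom.mem_ker, mem_subgroupOf, ← hker]
        exact Subtype.ext_iff,
      Nat.card_congr (subgroupOfEquivOfLe hle).toEquiv] at h
    rw [← h, mul_comm]
  · obtain ⟨e⟩ := quot_iso
    let g : ↥(Msub.comap f) →* Msub ⧸ Nsub.subgroupOf Msub :=
      (QuotientGroup.mk' _).comp (f.subgroupComap Msub)
    have hg : Function.Surjective g :=
      (QuotientGroup.mk'_surjective _).comp (MonoidHom.subgroupComap_surjective_of_surjective f Msub hf)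
    refine ⟨F9, inferInstance, inferInstance, card_F9, ⟨((QuotientGroup.quotientMulEquivOfEq ?_).trans
      (QuotientGroup.quotientKerEquivOfSurjective g hg)).trans e⟩⟩
    ext x
    rw [MonoidHom.mem_ker, mem_subgroupOf, mem_comap]
    exact (QuotientGroup.eq_one_iff (N := Nsub.subgroupOf Msub) (f.subgroupComap Msub x)).symm
  · rw [index_comap_of_surjective _ hf]
    exact Msub_index

end

end CfsgLib.Spor.MonsterType.Six
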